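import Mathlib.Algebra.Module.FinitePresentation
import Mathlib.RingTheory.FinitePresentation
import Mathlib.RingTheory.LocalProperties.FinitePresentation
import Mathlib.RingTheory.Localization.Away.AdjoinRoot
import Mathlib.RingTheory.Localization.Away.Basic
import Mathlib.RingTheory.TensorProduct.IsBaseChangePi

/-!
# Finite presentation of modules relative to a base (through a presentation of the ring)
-/

set_option autoImplicit false
set_option linter.style.haveILetI false
universe u v w

namespace Groth.Agent.RelFP.Basic

/-- `M` is finitely presented as a module through `φ`. -/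
abbrev FPVia {B : Type u} {A : Type v} [CommRing B] [CommRing A] (φ : B →+* A) (M : Type w)
    [AddCommGroup M] [Module A M] : Prop :=
  @Module.FinitePresentation B M _ _ (Module.compHom M φ)

/-- Along a surjection with finitely generated kernel, finite presentation does not change. -/
theorem fpVia_comp_iff {P B : Type u} {A : Type v} [CommRing P] [CommRing B] [CommRing A]
    (φ : P →+* B) (hφ : Function.Surjective φ) (hk : (RingHom.ker φ).FG) (ψ : B →+* A) (M : Type w)
    [AddCommGroup M] [Module A M] :
    FPVia (ψ.comp φ) M ↔ FPVia ψ M := by
  letI := φ.toAlgebra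
  letI : Module B M := Module.compHom M ψ
  letI : Module P M := Module.compHom M (ψ.comp φ)
  haveI : IsScalarTower P B M := IsScalarTower.of_algebraMap_smul fun p m => rfl
  haveI : Module.FinitePresentation P B :=
    Module.finitePresentation_of_surjective (Algebra.linearMap P B) hφ (by
      have : LinearMap.ker (Algebra.linearMap P B) = RingHom.ker φ := rfl
      rw [this]; exact hk)
  constructor
  · intro h
    haveI : Module.FinitePresentation P M := h
    haveI : Module.Finite B M := Module.Finite.of_restrictScalars_finite P B M
    obtain ⟨n, f, hf⟩ := Module.Finite.exists_fin' B M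
    have hg : (LinearMap.ker (f.restrictScalars P)).FG :=
      Module.FinitePresentation.fg_ker _ (show Function.Surjective (f.restrictScalars P) from hf)
    rw [LinearMap.ker_restrictScalars] at hg
    exact Module.finitePresentation_of_surjective f hf (Submodule.FG.of_restrictScalars (R := P) hg)
  · intro h
    haveI : Module.FinitePresentation B M := h
    exact Module.FinitePresentation.trans P M B

/-- Finite presentation through a finitely presented `R`-algebra surjecting onto `A` does not
depend on that algebra. -/
theorem fpVia_iff_fpVia {R B C : Type u} {A : Type v} [CommRing R] [CommRing B] [CommRing C]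
    [CommRing A] [Algebra R B] [Algebra R C] [Algebra R A] [Algebra.FinitePresentation R B]
    [Algebra.FinitePresentation R C] (ψ : B →ₐ[R] A) (hψ : Function.Surjective ψ)
    (χ : C →ₐ[R] A) (hχ : Function.Surjective χ) (M : Type w) [AddCommGroup M] [Module A M] :
    FPVia ψ.toRingHom M ↔ FPVia χ.toRingHom M := by
  classical
  obtain ⟨b, β, hβ, -⟩ := Algebra.FinitePresentation.out (R := R) (A := B)
  obtain ⟨c, γ, hγ, -⟩ := Algebra.FinitePresentation.out (R := R) (A := C)
  let P := MvPolynomial (Fin b ⊕ Fin c) R
  let e : P →ₐ[R] B := MvPolynomial.aeval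
    (Sum.elim (fun i => β (MvPolynomial.X i)) (fun j => (hψ (χ (γ (MvPolynomial.X j)))).choose))
  let e' : P →ₐ[R] C := MvPolynomial.aeval
    (Sum.elim (fun i => (hχ (ψ (β (MvPolynomial.X i)))).choose) (fun j => γ (MvPolynomial.X j)))
  have he : Function.Surjective e := by
    intro y
    obtain ⟨p, rfl⟩ := hβ y
    refine ⟨MvPolynomial.rename Sum.inl p, ?_⟩
    have : e.comp (MvPolynomial.rename Sum.inl) = β := by
      ext i
      show MvPolynomial.aeval _ (MvPolynomial.rename Sum.inl (MvPolynomial.X i)) = _
      rw [MvPolynomial.rename_X, MvPolynomial.aeval_X]; rfl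
    exact AlgHom.congr_fun this p
  have he' : Function.Surjective e' := by
    intro y
    obtain ⟨p, rfl⟩ := hγ y
    refine ⟨MvPolynomial.rename Sum.inr p, ?_⟩
    have : e'.comp (MvPolynomial.rename Sum.inr) = γ := by
      ext i
      show MvPolynomial.aeval _ (MvPolynomial.rename Sum.inr (MvPolynomial.X i)) = _
      rw [MvPolynomial.rename_X, MvPolynomial.aeval_X]; rfl
    exact AlgHom.congr_fun this p
  have hee : ψ.toRingHom.comp e.toRingHom = χ.toRingHom.comp e'.toRingHom := by
    show (ψ.comp e).toRingHom = (χ.comp e').toRingHom
    congr 1
    ext i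
    rcases i with i | j
    · simp [e, e', (hχ (ψ (β (MvPolynomial.X i)))).choose_spec]
    · simp [e, e', (hψ (χ (γ (MvPolynomial.X j)))).choose_spec]
  rw [← fpVia_comp_iff e.toRingHom he (Algebra.FinitePresentation.ker_fG_of_surjective e he),
    ← fpVia_comp_iff e'.toRingHom he' (Algebra.FinitePresentation.ker_fG_of_surjective e' he'), hee]

section Loc

variable {B : Type u} {A : Type v} [CommRing B] [CommRing A] (φ : B →+* A) (G : B)

/-- The map `B_G → A_(φ G)`. -/
noncomputable abbrev awayMap : Localization.Away G →+* Localization.Away (φ G) :=
  IsLocalization.Away.map (Localization.Away G) (Localization.Away (φ G)) φ G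

theorem awayMap_comp :
    (awayMap φ G).comp (algebraMap B (Localization.Away G)) =
      (algebraMap A (Localization.Away (φ G))).comp φ :=
  IsLocalization.map_comp _

theorem awayMap_surjective (hφ : Function.Surjective φ) : Function.Surjective (awayMap φ G) := by
  intro y
  obtain ⟨⟨a, ⟨_, n, rfl⟩⟩, rfl⟩ := IsLocalization.mk'_surjective (Submonoid.powers (φ G)) y
  obtain ⟨b, rfl⟩ := hφ a
  refine ⟨IsLocalization.mk' _ b ⟨G ^ n, pow_mem (Submonoid.mem_powers G) n⟩, ?_⟩
  erw [IsLocalization.map_mk']
  congr 1
  exact Subtype.ext (map_pow φ G n)

/-- Localization preserves relative finite presentation. -/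
theorem fpVia_awayMap {M N : Type w} [AddCommGroup M] [Module A M] [AddCommGroup N] [Module A N]
    [Module (Localization.Away (φ G)) N] [IsScalarTower A (Localization.Away (φ G)) N]
    (f : M →ₗ[A] N) [IsLocalizedModule (Submonoid.powers (φ G)) f] (h : FPVia φ M) :
    FPVia (awayMap φ G) N := by
  letI := φ.toAlgebra
  letI : Module B M := Module.compHom M φ
  letI : Module B N := Module.compHom N φ
  haveI : IsScalarTower B A M := IsScalarTower.of_algebraMap_smul fun _ _ => rfl
  haveI : IsScalarTower B A N := IsScalarTower.of_algebraMap_smul fun _ _ => rfl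
  letI : Module (Localization.Away G) N := Module.compHom N (awayMap φ G)
  haveI : IsScalarTower B (Localization.Away G) N := IsScalarTower.of_algebraMap_smul fun b n => by
    show (awayMap φ G (algebraMap B _ b)) • n = φ b • n
    rw [← RingHom.comp_apply, awayMap_comp, RingHom.comp_apply, algebraMap_smul]
  haveI : Module.FinitePresentation B M := h
  haveI : IsLocalizedModule (Submonoid.powers (algebraMap B A G)) f := ‹_›
  haveI := IsLocalizedModule.restrictScalars_powers (R := B) G f
  exact _root_.FinitePresentation.of_isBaseChange (f.restrictScalars B)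
    ((isLocalizedModule_iff_isBaseChange (Submonoid.powers G) (Localization.Away G) _).mp
      inferInstance)

/-- Relative finite presentation is local. -/
theorem fpVia_of_cover {ι : Type*} {M : Type w} [AddCommGroup M] [Module A M] (G : ι → B)
    (hG : Ideal.span (Set.range G) = ⊤)
    (h : ∀ i, FPVia (awayMap φ (G i)) (LocalizedModule (Submonoid.powers (φ (G i))) M)) :
    FPVia φ M := by
  letI := φ.toAlgebra
  letI : Module B M := Module.compHom M φ
  haveI : IsScalarTower B A M := IsScalarTower.of_algebraMap_smul fun _ _ => rfl
  let i : Set.range G → ι := fun g => g.2.choose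
  have hi : ∀ g : Set.range G, G (i g) = g := fun g => g.2.choose_spec
  let N : Set.range G → Type _ := fun g => LocalizedModule (Submonoid.powers (φ (G (i g)))) M
  letI : ∀ g, Module (Localization.Away (G (i g))) (N g) := fun g =>
    Module.compHom (N g) (awayMap φ (G (i g)))
  haveI : ∀ g, IsScalarTower B (Localization.Away (G (i g))) (N g) := fun g =>
    IsScalarTower.of_algebraMap_smul fun b n => by
      show (awayMap φ (G (i g)) (algebraMap B _ b)) • n = b • n
      rw [← RingHom.comp_apply, awayMap_comp, RingHom.comp_apply, algebraMap_smul]
      exact algebraMap_smul A b n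
  haveI : ∀ g : Set.range G, IsLocalization.Away (g : B) (Localization.Away (G (i g))) := fun g => by
    rw [← hi g]; infer_instance
  let f : ∀ g, M →ₗ[B] N g := fun g =>
    (LocalizedModule.mkLinearMap (Submonoid.powers (φ (G (i g)))) M).restrictScalars B
  haveI : ∀ g : Set.range G, IsLocalizedModule (Submonoid.powers (g : B)) (f g) := fun g => by
    rw [← hi g]
    haveI : IsLocalizedModule (Submonoid.powers (algebraMap B A (G (i g))))
        (LocalizedModule.mkLinearMap (Submonoid.powers (φ (G (i g)))) M) :=
      localizedModuleIsLocalizedModule _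
    exact IsLocalizedModule.restrictScalars_powers (R := B) _ _
  exact Module.FinitePresentation.of_localizationSpan' (Set.range G) hG
    (Rₚ := fun g => Localization.Away (G (i g))) f (fun g => h (i g))

end Loc

end Groth.Agent.RelFP.Basic
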