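import Groth.Prelude.Def_FlatCA
import Groth.Agent.RelFP.Basic
import Groth.Agent.S7007
import Mathlib.RingTheory.TensorProduct.MvPolynomial
import Mathlib.RingTheory.Finiteness.ModuleFinitePresentation
import Mathlib.Algebra.Module.LocalizedModule.Basic

/-!
# Relative finite presentation of modules: ring-level results

`FlatCA.RelFinitePresentation R A M`: change of base, localisation, locality, extensions, quotients,
retracts, finite change of rings, base change.
-/

set_option autoImplicit false
universe u

open TensorProduct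

namespace Groth.Agent.RelFP

open Groth.Agent.RelFP.Basic FlatCA

variable {R A : Type u} [CommRing R] [CommRing A] [Algebra R A]
variable {M : Type u} [AddCommGroup M] [Module A M]

theorem finiteType (h : RelFinitePresentation R A M) : Algebra.FiniteType R A :=
  let ⟨_, φ, hφ, _⟩ := h
  Algebra.FiniteType.of_surjective φ hφ

/-- Any finitely presented algebra surjecting onto `A` can be used. -/
theorem of_fpVia {B : Type u} [CommRing B] [Algebra R B] [Algebra.FinitePresentation R B]
    (ψ : B →ₐ[R] A) (hψ : Function.Surjective ψ) (h : FPVia ψ.toRingHom M) :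
    RelFinitePresentation R A M := by
  obtain ⟨n, β, hβ, -⟩ := Algebra.FinitePresentation.out (R := R) (A := B)
  exact ⟨n, ψ.comp β, hψ.comp hβ, (fpVia_iff_fpVia ψ hψ (ψ.comp β) (hψ.comp hβ) M).1 h⟩

theorem fpVia {B : Type u} [CommRing B] [Algebra R B] [Algebra.FinitePresentation R B]
    (ψ : B →ₐ[R] A) (hψ : Function.Surjective ψ) (h : RelFinitePresentation R A M) :
    FPVia ψ.toRingHom M :=
  let ⟨_, φ, hφ, h⟩ := h
  (fpVia_iff_fpVia φ hφ ψ hψ M).1 h

theorem moduleFinite (h : RelFinitePresentation R A M) : Module.Finite A M := by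
  obtain ⟨n, φ, hφ, h⟩ := h
  letI := φ.toRingHom.toAlgebra
  letI : Module (MvPolynomial (Fin n) R) M := Module.compHom M φ.toRingHom
  haveI : IsScalarTower (MvPolynomial (Fin n) R) A M :=
    IsScalarTower.of_algebraMap_smul fun _ _ => rfl
  haveI : Module.FinitePresentation (MvPolynomial (Fin n) R) M := h
  exact Module.Finite.of_restrictScalars_finite (MvPolynomial (Fin n) R) A M

/-- Transport along semilinear isomorphisms. -/
theorem of_equiv {A' : Type u} [CommRing A'] [Algebra R A'] {N : Type u} [AddCommGroup N]
    [Module A' N] (e : A ≃ₐ[R] A') (l : M ≃+ N) (hl : ∀ a m, l (a • m) = e a • l m)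
    (h : RelFinitePresentation R A M) : RelFinitePresentation R A' N := by
  obtain ⟨n, φ, hφ, h⟩ := h
  refine ⟨n, e.toAlgHom.comp φ, e.surjective.comp hφ, ?_⟩
  letI : Module (MvPolynomial (Fin n) R) M := Module.compHom M φ.toRingHom
  letI : Module (MvPolynomial (Fin n) R) N := Module.compHom N (e.toAlgHom.comp φ).toRingHom
  haveI : Module.FinitePresentation (MvPolynomial (Fin n) R) M := h
  exact Module.FinitePresentation.of_equiv ({ l with map_smul' := fun p m => hl (φ p) m } :
    M ≃ₗ[MvPolynomial (Fin n) R] N)

/-- Transport along linear isomorphisms. -/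
theorem congr {N : Type u} [AddCommGroup N] [Module A N] (l : M ≃ₗ[A] N)
    (h : RelFinitePresentation R A M) : RelFinitePresentation R A N :=
  of_equiv AlgEquiv.refl l.toAddEquiv l.map_smul h

/-- Changing the base by a finitely presented algebra. -/
theorem iff_base {R' : Type u} [CommRing R'] [Algebra R R'] [Algebra R' A] [IsScalarTower R R' A]
    [Algebra.FinitePresentation R R'] :
    RelFinitePresentation R A M ↔ RelFinitePresentation R' A M := by
  constructor
  · intro h
    have := finiteType h
    have : Algebra.FiniteType R' A := Algebra.FiniteType.of_restrictScalars_finiteType R R' A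
    obtain ⟨n, φ, hφ⟩ := Algebra.FiniteType.iff_quotient_mvPolynomial''.1 this
    have : Algebra.FinitePresentation R (MvPolynomial (Fin n) R') :=
      Algebra.FinitePresentation.trans R R' _
    exact ⟨n, φ, hφ, fpVia (φ.restrictScalars R) hφ h⟩
  · rintro ⟨n, φ, hφ, h⟩
    have : Algebra.FinitePresentation R (MvPolynomial (Fin n) R') :=
      Algebra.FinitePresentation.trans R R' _
    exact of_fpVia (φ.restrictScalars R) hφ h

/-- Localization. -/
theorem localization (g : A) (A' : Type u) [CommRing A'] [Algebra A A'] [Algebra R A']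
    [IsScalarTower R A A'] [IsLocalization.Away g A'] {N : Type u} [AddCommGroup N] [Module A N]
    [Module A' N] [IsScalarTower A A' N] (f : M →ₗ[A] N)
    [IsLocalizedModule (Submonoid.powers g) f] (h : RelFinitePresentation R A M) :
    RelFinitePresentation R A' N := by
  obtain ⟨n, φ, hφ, h⟩ := h
  obtain ⟨G, hG⟩ := hφ g
  subst hG
  let e : Localization.Away (φ.toRingHom G) ≃ₐ[A] A' :=
    IsLocalization.algEquiv (Submonoid.powers (φ G)) _ _
  letI : Module (Localization.Away (φ.toRingHom G)) N := Module.compHom N e.toRingEquiv.toRingHom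
  haveI : IsScalarTower A (Localization.Away (φ.toRingHom G)) N :=
    IsScalarTower.of_algebraMap_smul fun a x => by
      show e (algebraMap A _ a) • x = a • x
      rw [e.commutes, algebraMap_smul]
  have h' := fpVia_awayMap φ.toRingHom G f h
  haveI : Algebra.FinitePresentation R (Localization.Away G) :=
    haveI : Algebra.FinitePresentation (MvPolynomial (Fin n) R) (Localization.Away G) :=
      IsLocalization.Away.finitePresentation G
    Algebra.FinitePresentation.trans R (MvPolynomial (Fin n) R) _
  let ψ : Localization.Away G →ₐ[R] A' :=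
    { e.toRingEquiv.toRingHom.comp (awayMap φ.toRingHom G) with
      commutes' := fun r => by
        show e (awayMap φ.toRingHom G (algebraMap R _ r)) = _
        rw [IsScalarTower.algebraMap_apply R (MvPolynomial (Fin n) R) (Localization.Away G),
          ← RingHom.comp_apply, awayMap_comp, RingHom.comp_apply, e.commutes]
        show algebraMap A A' (φ (algebraMap R _ r)) = _
        rw [φ.commutes, ← IsScalarTower.algebraMap_apply R A A'] }
  exact of_fpVia ψ (e.surjective.comp (awayMap_surjective φ.toRingHom G hφ)) h'

/-- Locality. -/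
theorem of_localization [Algebra.FiniteType R A] {ι : Type*} (g : ι → A)
    (hg : Ideal.span (Set.range g) = ⊤)
    (h : ∀ i, RelFinitePresentation R (Localization.Away (g i))
      (LocalizedModule (Submonoid.powers (g i)) M)) : RelFinitePresentation R A M := by
  classical
  obtain ⟨s, hs, hs'⟩ := Submodule.mem_span_finite_of_mem_span
    (hg ▸ Submodule.mem_top : (1 : A) ∈ Ideal.span (Set.range g))
  choose i hi using fun x : s => hs x.2
  let e := s.equivFin.symm
  obtain ⟨n, α, hα⟩ := Algebra.FiniteType.iff_quotient_mvPolynomial''.1 ‹Algebra.FiniteType R A›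
  have hf : Ideal.span (Set.range fun j => g (i (e j))) = ⊤ := by
    rw [Ideal.eq_top_iff_one]
    refine Ideal.span_mono ?_ hs'
    intro x hx
    exact ⟨s.equivFin ⟨x, hx⟩, by simp [e, hi]⟩
  choose k γ hγ hM using fun j => h (i (e j))
  exact ⟨n, α, hα, (Groth.Agent.S7007.result α hα M (fun j => g (i (e j))) hf k γ hγ).2 hM⟩

/-- Extensions. -/
theorem of_exact {M₁ M₃ : Type u} [AddCommGroup M₁] [Module A M₁] [AddCommGroup M₃] [Module A M₃]
    (f : M₁ →ₗ[A] M) (g : M →ₗ[A] M₃) (hf : Function.Injective f) (hg : Function.Surjective g)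
    (hfg : Function.Exact f g) (h₁ : RelFinitePresentation R A M₁)
    (h₃ : RelFinitePresentation R A M₃) : RelFinitePresentation R A M := by
  obtain ⟨n, φ, hφ, h₁⟩ := h₁
  refine ⟨n, φ, hφ, ?_⟩
  have h₃ := fpVia φ hφ h₃
  letI := φ.toRingHom.toAlgebra
  letI : Module (MvPolynomial (Fin n) R) M₁ := Module.compHom M₁ φ.toRingHom
  letI : Module (MvPolynomial (Fin n) R) M := Module.compHom M φ.toRingHom
  letI : Module (MvPolynomial (Fin n) R) M₃ := Module.compHom M₃ φ.toRingHom
  haveI : Module.FinitePresentation (MvPolynomial (Fin n) R) M₁ := h₁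
  haveI : Module.FinitePresentation (MvPolynomial (Fin n) R) M₃ := h₃
  let f' : M₁ →ₗ[MvPolynomial (Fin n) R] M := { f with map_smul' := fun p m => f.map_smul (φ p) m }
  let g' : M →ₗ[MvPolynomial (Fin n) R] M₃ := { g with map_smul' := fun p m => g.map_smul (φ p) m }
  haveI : Module.FinitePresentation (MvPolynomial (Fin n) R) (LinearMap.ker g') := by
    have e : LinearMap.ker g' = LinearMap.range f' := by
      ext x; exact hfg x
    rw [e]
    exact Module.FinitePresentation.of_equiv (LinearEquiv.ofInjective f' hf)
  exact Module.finitePresentation_of_ker g' hg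

/-- Quotients by finitely generated submodules. -/
theorem of_surjective {N : Type u} [AddCommGroup N] [Module A N] (g : M →ₗ[A] N)
    (hg : Function.Surjective g) (hk : (LinearMap.ker g).FG) (h : RelFinitePresentation R A M) :
    RelFinitePresentation R A N := by
  obtain ⟨n, φ, hφ, h⟩ := h
  refine ⟨n, φ, hφ, ?_⟩
  letI := φ.toRingHom.toAlgebra
  letI : Module (MvPolynomial (Fin n) R) M := Module.compHom M φ.toRingHom
  letI : Module (MvPolynomial (Fin n) R) N := Module.compHom N φ.toRingHom
  haveI : IsScalarTower (MvPolynomial (Fin n) R) A M :=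
    IsScalarTower.of_algebraMap_smul fun _ _ => rfl
  haveI : IsScalarTower (MvPolynomial (Fin n) R) A N :=
    IsScalarTower.of_algebraMap_smul fun _ _ => rfl
  haveI : Module.FinitePresentation (MvPolynomial (Fin n) R) M := h
  refine Module.finitePresentation_of_surjective (g.restrictScalars (MvPolynomial (Fin n) R)) hg ?_
  rw [LinearMap.ker_restrictScalars]
  exact hk.restrictScalars_of_surjective (R := MvPolynomial (Fin n) R) hφ

/-- Finite change of rings. -/
theorem iff_finite [Algebra.FiniteType R A] {B : Type u} [CommRing B] [Algebra A B] [Algebra R B]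
    [IsScalarTower R A B] [Module.Finite A B] {M : Type u} [AddCommGroup M] [Module A M]
    [Module B M] [IsScalarTower A B M] :
    RelFinitePresentation R A M ↔ RelFinitePresentation R B M := by
  classical
  obtain ⟨n, φ, hφ⟩ := Algebra.FiniteType.iff_quotient_mvPolynomial''.1 ‹Algebra.FiniteType R A›
  let P := MvPolynomial (Fin n) R
  letI := φ.toRingHom.toAlgebra
  letI : Algebra P B := ((algebraMap A B).comp φ.toRingHom).toAlgebra
  haveI : IsScalarTower P A B := IsScalarTower.of_algebraMap_eq fun _ => rfl
  haveI : IsScalarTower R P B := IsScalarTower.of_algebraMap_eq fun r => by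
    show algebraMap R B r = algebraMap A B (φ (algebraMap R P r))
    rw [φ.commutes, ← IsScalarTower.algebraMap_apply R A B]
  haveI : Module.Finite P A := Module.Finite.of_surjective (Algebra.linearMap P A) hφ
  haveI : Module.Finite P B := Module.Finite.trans A B
  -- a finite, finitely presented `P`-algebra surjecting onto `B`
  obtain ⟨Q, _, _, _, _, _, f, hf⟩ := Module.Finite.exists_free_surjective P B
  haveI : Module.FinitePresentation P Q := Module.finitePresentation_of_projective P Q
  haveI : Algebra.FinitePresentation P Q := .of_finitePresentation P Q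
  letI : Algebra R Q := ((algebraMap P Q).comp (algebraMap R P)).toAlgebra
  haveI : IsScalarTower R P Q := IsScalarTower.of_algebraMap_eq fun _ => rfl
  haveI : Algebra.FinitePresentation R Q := Algebra.FinitePresentation.trans R P Q
  let ψ : Q →ₐ[R] B := f.restrictScalars R
  letI : Module P M := Module.compHom M φ.toRingHom
  letI : Module Q M := Module.compHom M f.toRingHom
  haveI : IsScalarTower P Q M := IsScalarTower.of_algebraMap_smul fun p m => by
    show f (algebraMap P Q p) • m = φ p • m
    rw [f.commutes]
    exact algebraMap_smul B (φ p) m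
  constructor
  · intro h
    haveI : Module.FinitePresentation P M := fpVia φ hφ h
    haveI : Module.Finite Q M := Module.Finite.of_restrictScalars_finite P Q M
    refine of_fpVia ψ hf ?_
    obtain ⟨m, l, hl⟩ := Module.Finite.exists_fin' Q M
    have hg : (LinearMap.ker (l.restrictScalars P)).FG :=
      Module.FinitePresentation.fg_ker _ (show Function.Surjective (l.restrictScalars P) from hl)
    rw [LinearMap.ker_restrictScalars] at hg
    exact Module.finitePresentation_of_surjective l hl (Submodule.FG.of_restrictScalars (R := P) hg)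
  · intro h
    haveI : Module.FinitePresentation Q M := fpVia ψ hf h
    exact ⟨n, φ, hφ, Module.FinitePresentation.trans P M Q⟩

/-- Base change. -/
theorem baseChange {R' A' : Type u} [CommRing R'] [CommRing A'] [Algebra R R'] [Algebra R' A']
    [Algebra A A'] [Algebra R A'] [IsScalarTower R R' A'] [IsScalarTower R A A']
    [hP : Algebra.IsPushout R R' A A'] {N : Type u} [AddCommGroup N] [Module A N] [Module A' N]
    [IsScalarTower A A' N] (f : M →ₗ[A] N) (hf : IsBaseChange A' f)
    (h : RelFinitePresentation R A M) : RelFinitePresentation R' A' N := by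
  obtain ⟨n, φ, hφ, h⟩ := h
  let P := MvPolynomial (Fin n) R
  let Q := MvPolynomial (Fin n) R'
  letI : Algebra P Q := MvPolynomial.algebraMvPolynomial
  letI := φ.toRingHom.toAlgebra
  let ψ : Q →ₐ[R'] A' := MvPolynomial.aeval fun i => algebraMap A A' (φ (MvPolynomial.X i))
  letI := ψ.toRingHom.toAlgebra
  haveI : IsScalarTower R' Q A' := IsScalarTower.of_algebraMap_eq fun r => (ψ.commutes r).symm
  haveI : IsScalarTower R P A := IsScalarTower.of_algebraMap_eq fun r => (φ.commutes r).symm
  letI : Algebra P A' := ((algebraMap A A').comp φ.toRingHom).toAlgebra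
  haveI : IsScalarTower P A A' := IsScalarTower.of_algebraMap_eq fun _ => rfl
  haveI : IsScalarTower P Q A' := by
    refine IsScalarTower.of_algebraMap_eq' ?_
    show (algebraMap A A').comp φ.toRingHom = ψ.toRingHom.comp (MvPolynomial.map (algebraMap R R'))
    refine MvPolynomial.ringHom_ext (fun r => ?_) (fun i => ?_)
    · show algebraMap A A' (φ (MvPolynomial.C r)) = ψ (MvPolynomial.map _ (MvPolynomial.C r))
      rw [MvPolynomial.map_C, ← MvPolynomial.algebraMap_eq, ← MvPolynomial.algebraMap_eq,
        φ.commutes, ψ.commutes, ← IsScalarTower.algebraMap_apply, ← IsScalarTower.algebraMap_apply]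
    · show algebraMap A A' (φ (MvPolynomial.X i)) = ψ (MvPolynomial.map _ (MvPolynomial.X i))
      rw [MvPolynomial.map_X, MvPolynomial.aeval_X]
  haveI : IsScalarTower R Q A' := IsScalarTower.of_algebraMap_eq fun r => by
    rw [IsScalarTower.algebraMap_apply R R' Q, IsScalarTower.algebraMap_apply R R' A',
      ← IsScalarTower.algebraMap_apply R' Q A']
  haveI : Algebra.IsPushout R P R' Q := inferInstance
  haveI : Algebra.IsPushout P A Q A' :=
    (Algebra.IsPushout.comp_iff R P R' Q (T := A) (T' := A')).1 (Algebra.IsPushout.symm hP)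
  haveI : Algebra.IsPushout P Q A A' := Algebra.IsPushout.symm inferInstance
  have hψ : Function.Surjective ψ := by
    intro a
    induction a using hP.out.inductionOn with
    | zero => exact ⟨0, map_zero _⟩
    | tmul x =>
      obtain ⟨p, rfl⟩ := hφ x
      exact ⟨algebraMap P Q p, (IsScalarTower.algebraMap_apply P Q A' p).symm⟩
    | smul r x hx =>
      obtain ⟨q, rfl⟩ := hx
      exact ⟨r • q, map_smul ψ r q⟩
    | add x y hx hy =>
      obtain ⟨p, rfl⟩ := hx
      obtain ⟨q, rfl⟩ := hy
      exact ⟨p + q, map_add _ _ _⟩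
  refine ⟨n, ψ, hψ, ?_⟩
  letI : Module P M := Module.compHom M φ.toRingHom
  haveI : IsScalarTower P A M := IsScalarTower.of_algebraMap_smul fun _ _ => rfl
  letI : Module Q N := Module.compHom N ψ.toRingHom
  haveI : IsScalarTower Q A' N := IsScalarTower.of_algebraMap_smul fun _ _ => rfl
  haveI : Module.FinitePresentation P M := h
  exact Module.FinitePresentation.of_equiv
    ((Algebra.IsPushout.cancelBaseChange P Q A A' M).symm ≪≫ₗ hf.equiv.restrictScalars Q)

/-- Pullback along a finitely presented algebra. -/
theorem tensor (B : Type u) [CommRing B] [Algebra A B] [Algebra R B] [IsScalarTower R A B]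
    [Algebra.FinitePresentation A B] (h : RelFinitePresentation R A M) :
    RelFinitePresentation R B (B ⊗[A] M) := by
  obtain ⟨m, β, hβ, hk⟩ := Algebra.FinitePresentation.out (R := A) (A := B)
  let A₁ := MvPolynomial (Fin m) A
  let R₁ := MvPolynomial (Fin m) R
  letI : Algebra R₁ A₁ := MvPolynomial.algebraMvPolynomial
  haveI : IsScalarTower R R₁ A₁ := IsScalarTower.of_algebraMap_eq fun r => by
    show algebraMap R A₁ r = MvPolynomial.map (algebraMap R A) (MvPolynomial.C r)
    rw [MvPolynomial.map_C, IsScalarTower.algebraMap_apply R A A₁, MvPolynomial.algebraMap_eq]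
  haveI : Algebra.IsPushout R R₁ A A₁ := inferInstance
  have h₁ : RelFinitePresentation R₁ A₁ (A₁ ⊗[A] M) :=
    baseChange (R := R) (A := A) _ (TensorProduct.isBaseChange A M A₁) h
  have h₂ : RelFinitePresentation R A₁ (A₁ ⊗[A] M) := (iff_base (R := R) (R' := R₁)).2 h₁
  have := finiteType h₂
  -- the quotient
  letI := β.toRingHom.toAlgebra
  haveI : IsScalarTower A A₁ B := IsScalarTower.of_algebraMap_eq fun a => (β.commutes a).symm
  let g : A₁ ⊗[A] M →ₗ[A₁] B ⊗[A] M :=
    TensorProduct.AlgebraTensorModule.map (Algebra.linearMap A₁ B) LinearMap.id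
  haveI : IsScalarTower R A₁ B := IsScalarTower.of_algebraMap_eq fun r => by
    show algebraMap R B r = β (algebraMap R A₁ r)
    rw [IsScalarTower.algebraMap_apply R A A₁, β.commutes, ← IsScalarTower.algebraMap_apply R A B]
  haveI : Module.Finite A₁ B := Module.Finite.of_surjective (Algebra.linearMap A₁ B) hβ
  have hfin := moduleFinite h
  have hgt : ∀ (a : A₁) (x : M), g (a ⊗ₜ[A] x) = β a ⊗ₜ[A] x := fun _ _ => rfl
  have hg : Function.Surjective g := by
    intro y
    induction y using TensorProduct.induction_on with
    | zero => exact ⟨0, map_zero g⟩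
    | tmul b x =>
      obtain ⟨a, rfl⟩ := hβ b
      exact ⟨a ⊗ₜ[A] x, hgt a x⟩
    | add y z hy hz =>
      obtain ⟨y', rfl⟩ := hy
      obtain ⟨z', rfl⟩ := hz
      exact ⟨y' + z', map_add g _ _⟩
  have hker : (LinearMap.ker g).FG := by
    let I : Ideal A₁ := RingHom.ker β.toRingHom
    let i : I ⊗[A] M →ₗ[A₁] A₁ ⊗[A] M :=
      TensorProduct.AlgebraTensorModule.map (Submodule.subtype I) LinearMap.id
    have he : Function.Exact i g := rTensor_exact M
      (f := (Submodule.subtype I).restrictScalars A) (g := β.toLinearMap)
      (fun x => ⟨fun hx => ⟨⟨x, hx⟩, rfl⟩, by rintro ⟨y, rfl⟩; exact y.2⟩) hβ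
    rw [LinearMap.exact_iff.mp he]
    haveI : Module.Finite A₁ I := Module.Finite.of_fg hk
    haveI : Module.Finite A₁ (I ⊗[A] M) :=
      Module.Finite.equiv (TensorProduct.AlgebraTensorModule.cancelBaseChange A A₁ A₁ I M)
    exact Module.Finite.fg_top.map i |> fun t => (LinearMap.range_eq_map i).symm ▸ t
  exact (iff_finite (R := R) (A := A₁) (B := B)).1 (of_surjective g hg hker h₂)

end Groth.Agent.RelFP
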