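import Groth.Prelude.Def_Flatn
import Groth.Prelude.Def_Coh
import Groth.Prelude.Def_CohB1
import Groth.Agent.RelFP.Algebra
import Groth.Agent.QCoh.Exact
import Groth.Agent.LimTop.PullSec
import Mathlib.AlgebraicGeometry.Morphisms.FiniteType
import Mathlib.AlgebraicGeometry.Morphisms.FinitePresentation
import Mathlib.AlgebraicGeometry.Morphisms.Finite
import Mathlib.AlgebraicGeometry.Morphisms.Flat

/-!
# Relative finite presentation of quasi-coherent modules: locality on source and base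
-/

set_option autoImplicit false
universe u

noncomputable section

open AlgebraicGeometry CategoryTheory Opposite TopologicalSpace

namespace Groth.Agent.RelFP

open Groth.Agent.QCoh

variable {X S : Scheme.{u}}

/-- `Γ(F, U)` is finitely presented relative to `Γ(S, V)`. -/
def RP (f : X ⟶ S) (F : X.Modules) (U : X.Opens) (V : S.Opens) (h : U ≤ f ⁻¹ᵁ V) : Prop :=
  letI := (f.appLE V U h).hom.toAlgebra
  FlatCA.RelFinitePresentation Γ(S, V) Γ(X, U) Γ(F, U)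

theorem relFPOn_iff_rp (f : X ⟶ S) (F : X.Modules) (U : X.affineOpens) (V : S.affineOpens)
    (h : (U : X.Opens) ≤ f ⁻¹ᵁ (V : S.Opens)) : Flatn.RelFPOn f F U V h ↔ RP f F U V h :=
  Iff.rfl

section Local

variable {f : X ⟶ S} {F : X.Modules}

/-- The module structure on sections over a smaller open. -/
abbrev resModule (F : X.Modules) {U W : X.Opens} (h : W ≤ U) : Module Γ(X, U) Γ(F, W) :=
  Module.compHom _ (rres h).hom

/-- Restriction to a basic open, as a linear map. -/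
def resLin (F : X.Modules) {U : X.Opens} (g : Γ(X, U)) :
    letI := resModule F (X.basicOpen_le g)
    Γ(F, U) →ₗ[Γ(X, U)] Γ(F, X.basicOpen g) :=
  letI := resModule F (X.basicOpen_le g)
  { toFun := res F (X.basicOpen_le g)
    map_add' := map_add _
    map_smul' := fun r x => res_smul F (X.basicOpen_le g) r x }

theorem isUnit_rres_basicOpen {U : X.Opens} (g : Γ(X, U)) : IsUnit (rres (X.basicOpen_le g) g) :=
  RingedSpace.isUnit_res_basicOpen _ g

theorem isLocalizedModule_resLin (F : X.Modules) [F.IsQuasicoherent] {U : X.Opens}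
    (hU : IsAffineOpen U) (g : Γ(X, U)) :
    letI := resModule F (X.basicOpen_le g)
    IsLocalizedModule (Submonoid.powers g) (resLin F g) := by
  letI := resModule F (X.basicOpen_le g)
  refine ⟨?_, fun y => ?_, fun {x₁ x₂} e => ?_⟩
  · rintro ⟨_, n, rfl⟩
    rw [Module.End.isUnit_iff]
    obtain ⟨v, hv⟩ := ((isUnit_rres_basicOpen g).pow n)
    refine ⟨fun a b (hab : rres (X.basicOpen_le g) (g ^ n) • a = rres (X.basicOpen_le g) (g ^ n) • b)
      => ?_, fun a => ⟨(↑v⁻¹ : Γ(X, X.basicOpen g)) • a, ?_⟩⟩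
    · rw [map_pow, ← hv] at hab
      exact (Units.isUnit v).smul_left_cancel.mp hab
    · show rres (X.basicOpen_le g) (g ^ n) • (↑v⁻¹ : Γ(X, X.basicOpen g)) • a = a
      rw [map_pow, ← hv, smul_smul, v.mul_inv, one_smul]
  · obtain ⟨n, t, ht⟩ := (isLocalizingAt F hU g).surj y
    refine ⟨⟨t, ⟨g ^ n, n, rfl⟩⟩, ?_⟩
    show rres (X.basicOpen_le g) (g ^ n) • y = res F (X.basicOpen_le g) t
    rw [ht, map_pow]
  · obtain ⟨n, hn⟩ := (isLocalizingAt F hU g).eq_zero (x₁ - x₂) (by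
      rw [map_sub]; exact sub_eq_zero.mpr e)
    exact ⟨⟨g ^ n, n, rfl⟩, by rwa [smul_sub, sub_eq_zero] at hn⟩

theorem RP.basicOpen [F.IsQuasicoherent] {U : X.Opens} {V : S.Opens} {h : U ≤ f ⁻¹ᵁ V}
    (hU : IsAffineOpen U) (g : Γ(X, U)) (hF : RP f F U V h) :
    RP f F (X.basicOpen g) V ((X.basicOpen_le g).trans h) := by
  letI := (f.appLE V U h).hom.toAlgebra
  letI := (f.appLE V (X.basicOpen g) ((X.basicOpen_le g).trans h)).hom.toAlgebra
  haveI := hU.isLocalization_basicOpen g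
  letI := resModule F (X.basicOpen_le g)
  haveI : IsScalarTower Γ(S, V) Γ(X, U) Γ(X, X.basicOpen g) := IsScalarTower.of_algebraMap_eq'
    congr($((f.appLE_map h (homOfLE (X.basicOpen_le g)).op).symm).hom)
  haveI : IsScalarTower Γ(X, U) Γ(X, X.basicOpen g) Γ(F, X.basicOpen g) :=
    IsScalarTower.of_algebraMap_smul fun _ _ => rfl
  haveI := isLocalizedModule_resLin F hU g
  exact localization g _ (resLin F g) hF

theorem RP.congr_open {U U' : X.Opens} {V : S.Opens} {h : U ≤ f ⁻¹ᵁ V} (e : U = U')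
    (hF : RP f F U V h) : RP f F U' V (e ▸ h) := by subst e; exact hF

theorem finiteType_appLE [LocallyOfFiniteType f] {U : X.Opens} {V : S.Opens} (hU : IsAffineOpen U)
    (hV : IsAffineOpen V) (h : U ≤ f ⁻¹ᵁ V) :
    letI := (f.appLE V U h).hom.toAlgebra
    Algebra.FiniteType Γ(S, V) Γ(X, U) :=
  HasRingHomProperty.appLE @LocallyOfFiniteType f inferInstance ⟨V, hV⟩ ⟨U, hU⟩ h

theorem finitePresentation_appLE [LocallyOfFinitePresentation f] {U : X.Opens} {V : S.Opens}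
    (hU : IsAffineOpen U) (hV : IsAffineOpen V) (h : U ≤ f ⁻¹ᵁ V) :
    letI := (f.appLE V U h).hom.toAlgebra
    Algebra.FinitePresentation Γ(S, V) Γ(X, U) :=
  HasRingHomProperty.appLE @LocallyOfFinitePresentation f inferInstance ⟨V, hV⟩ ⟨U, hU⟩ h

theorem RP.of_cover [LocallyOfFiniteType f] [F.IsQuasicoherent] {U : X.Opens} {V : S.Opens}
    (hU : IsAffineOpen U) (hV : IsAffineOpen V) (h : U ≤ f ⁻¹ᵁ V)
    (H : ∀ x ∈ U, ∃ g : Γ(X, U), x ∈ X.basicOpen g ∧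
      RP f F (X.basicOpen g) V ((X.basicOpen_le g).trans h)) : RP f F U V h := by
  choose g hxg hg using fun x : U => H x.1 x.2
  letI := (f.appLE V U h).hom.toAlgebra
  haveI := finiteType_appLE hU hV h
  refine of_localization g ?_ fun x => ?_
  · rw [← hU.self_le_iSup_basicOpen_iff]
    intro y hy
    exact Opens.mem_iSup.mpr ⟨⟨g ⟨y, hy⟩, ⟨⟨y, hy⟩, rfl⟩⟩, hxg ⟨y, hy⟩⟩
  · letI := (f.appLE V (X.basicOpen (g x)) ((X.basicOpen_le (g x)).trans h)).hom.toAlgebra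
    haveI := hU.isLocalization_basicOpen (g x)
    letI := resModule F (X.basicOpen_le (g x))
    haveI : IsScalarTower Γ(S, V) Γ(X, U) Γ(X, X.basicOpen (g x)) := IsScalarTower.of_algebraMap_eq'
      congr($((f.appLE_map h (homOfLE (X.basicOpen_le (g x))).op).symm).hom)
    haveI := isLocalizedModule_resLin F hU (g x)
    let e : Γ(X, X.basicOpen (g x)) ≃ₐ[Γ(X, U)] Localization.Away (g x) :=
      IsLocalization.algEquiv (Submonoid.powers (g x)) _ _
    let l := IsLocalizedModule.iso (Submonoid.powers (g x)) (resLin F (g x))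
    refine of_equiv (e.restrictScalars Γ(S, V)) l.symm.toAddEquiv (fun a m => ?_) (hg x)
    obtain ⟨⟨r, s⟩, hrs⟩ := IsLocalization.surj (Submonoid.powers (g x)) a
    have hs : IsUnit (algebraMap Γ(X, U) (Localization.Away (g x)) s.1) :=
      IsLocalization.map_units _ s
    refine hs.smul_left_cancel.mp ?_
    show _ • l.symm (a • m) = _ • (e a • l.symm m)
    rw [algebraMap_smul, smul_smul, ← e.commutes, ← map_mul, mul_comm, hrs, e.commutes,
      algebraMap_smul, ← map_smul, ← map_smul]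
    congr 1
    show rres (X.basicOpen_le (g x)) s.1 • a • m = rres (X.basicOpen_le (g x)) r • m
    rw [smul_smul]
    congr 1
    rw [mul_comm]
    exact hrs

theorem RP.iff_base_le {U : X.Opens} {V V' : S.Opens}
    (hV : IsAffineOpen V) (hV' : IsAffineOpen V') (e : V' ≤ V) (h : U ≤ f ⁻¹ᵁ V')
    : RP f F U V (h.trans (f.preimage_mono e)) ↔ RP f F U V' h := by
  letI := (f.appLE V U (h.trans (f.preimage_mono e))).hom.toAlgebra
  letI := (f.appLE V' U h).hom.toAlgebra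
  letI := (rres e).hom.toAlgebra
  haveI : IsScalarTower Γ(S, V) Γ(S, V') Γ(X, U) := IsScalarTower.of_algebraMap_eq'
    congr($((f.map_appLE h (homOfLE e).op).symm).hom)
  haveI : Algebra.FinitePresentation Γ(S, V) Γ(S, V') := by
    have := HasRingHomProperty.appLE @LocallyOfFinitePresentation (𝟙 S) inferInstance ⟨V, hV⟩
      ⟨V', hV'⟩ e
    rwa [show (𝟙 S : S ⟶ S).appLE V V' e = rres e from (by simp only [Scheme.Hom.appLE, rres, Scheme.Hom.id_app]; exact Category.id_comp _)] at this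
  exact iff_base

/-- A point has a good pair of affine opens. -/
def GoodAt (f : X ⟶ S) (F : X.Modules) (x : X) : Prop :=
  ∃ (U : X.Opens) (V : S.Opens) (h : U ≤ f ⁻¹ᵁ V),
    IsAffineOpen U ∧ IsAffineOpen V ∧ x ∈ U ∧ RP f F U V h

/-- Locality: one good pair at each point gives all pairs. -/
theorem RP.of_goodAt [LocallyOfFiniteType f] [F.IsQuasicoherent] {U : X.Opens} {V : S.Opens}
    (hU : IsAffineOpen U) (hV : IsAffineOpen V) (h : U ≤ f ⁻¹ᵁ V)
    (H : ∀ x ∈ U, GoodAt f F x) : RP f F U V h := by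
  refine RP.of_cover hU hV h fun x hx => ?_
  obtain ⟨U₀, V₀, h₀, hU₀, hV₀, hx₀, hr⟩ := H x hx
  obtain ⟨a, b, hab, ha⟩ := exists_basicOpen_le_affine_inter hV hV₀ (f x) ⟨h hx, h₀ hx₀⟩
  obtain ⟨g₁, hg₁, hxg₁⟩ := hU₀.exists_basicOpen_le (V := f ⁻¹ᵁ S.basicOpen a) ⟨x, ha⟩ hx₀
  obtain ⟨g, g₂, hg, hxg⟩ := exists_basicOpen_le_affine_inter hU (hU₀.basicOpen g₁) x ⟨hx, hxg₁⟩
  refine ⟨g, hxg, ?_⟩
  have r₁ := ((hr.basicOpen hU₀ g₁).basicOpen (hU₀.basicOpen g₁) g₂).congr_open hg.symm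
  have hle : X.basicOpen g ≤ f ⁻¹ᵁ S.basicOpen a :=
    hg.le.trans ((X.basicOpen_le g₂).trans hg₁)
  have r₂ := (RP.iff_base_le hV₀ (hV.basicOpen a) (hab.le.trans (S.basicOpen_le b)) hle).1 r₁
  exact (RP.iff_base_le hV (hV.basicOpen a) (S.basicOpen_le a) hle).2 r₂

end Local

variable (f : X ⟶ S) (F : X.Modules)

theorem goodAt_of_isRelFP (hF : Flatn.IsRelFP f F) (x : X) : GoodAt f F x := by
  obtain ⟨𝒱, h𝒱, H⟩ := hF
  obtain ⟨V, hV, hxV⟩ : ∃ V ∈ 𝒱, f x ∈ (V : S.Opens) := by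
    simpa using h𝒱.ge (trivial : f x ∈ (⊤ : S.Opens))
  obtain ⟨𝒰, h𝒰, H⟩ := H V hV
  obtain ⟨U, hU, hxU⟩ : ∃ U ∈ 𝒰, x ∈ (U : X.Opens) := by
    simpa using h𝒰.ge (show x ∈ f ⁻¹ᵁ (V : S.Opens) from hxV)
  have h : (U : X.Opens) ≤ f ⁻¹ᵁ (V : S.Opens) := (le_iSup₂ (f := fun (W : X.affineOpens) (_ : W ∈ 𝒰) => (W : X.Opens)) U hU).trans h𝒰.le
  exact ⟨U, V, h, U.2, V.2, hxU, H U hU h⟩

variable [LocallyOfFiniteType f] [F.IsQuasicoherent]

theorem rp_of_isRelFP (hF : Flatn.IsRelFP f F) {U : X.Opens} {V : S.Opens} (hU : IsAffineOpen U)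
    (hV : IsAffineOpen V) (h : U ≤ f ⁻¹ᵁ V) : RP f F U V h :=
  RP.of_goodAt hU hV h fun x _ => goodAt_of_isRelFP f F hF x

theorem isRelFP_of_goodAt (H : ∀ x, GoodAt f F x) : Flatn.IsRelFP f F := by
  refine ⟨Set.univ, ?_, fun V _ => ⟨{U | (U : X.Opens) ≤ f ⁻¹ᵁ (V : S.Opens)}, ?_, fun U _ h =>
    (relFPOn_iff_rp f F U V h).2 (RP.of_goodAt U.2 V.2 h fun x _ => H x)⟩⟩
  · refine top_le_iff.mp fun y _ => ?_
    obtain ⟨_, ⟨W, hW, rfl⟩, hy, -⟩ := S.isBasis_affineOpens.exists_subset_of_mem_open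
      (Set.mem_univ y) isOpen_univ
    simpa using ⟨W, hW, hy⟩
  · refine le_antisymm (iSup₂_le fun U hU => hU) fun x hx => ?_
    show x ∈ (⨆ U ∈ _, _ : X.Opens)
    obtain ⟨_, ⟨W, hW, rfl⟩, hy, hle⟩ := X.isBasis_affineOpens.exists_subset_of_mem_open
      hx (f ⁻¹ᵁ (V : S.Opens)).2
    exact Opens.mem_iSup.mpr ⟨⟨W, hW⟩, Opens.mem_iSup.mpr ⟨hle, hy⟩⟩

theorem exists_affine_pair {X S : Scheme.{u}} (f : X ⟶ S) (x : X) :
    ∃ (U : X.Opens) (V : S.Opens), IsAffineOpen U ∧ IsAffineOpen V ∧ x ∈ U ∧ U ≤ f ⁻¹ᵁ V := by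
  obtain ⟨_, ⟨V, hV, rfl⟩, hy, -⟩ := S.isBasis_affineOpens.exists_subset_of_mem_open
    (Set.mem_univ (f x)) isOpen_univ
  obtain ⟨_, ⟨U, hU, rfl⟩, hx, hle⟩ := X.isBasis_affineOpens.exists_subset_of_mem_open
    (show x ∈ f ⁻¹ᵁ V from hy) (f ⁻¹ᵁ V).2
  exact ⟨U, V, hU, hV, hx, hle⟩

theorem isRelFP_iff_forall : Flatn.IsRelFP f F ↔
    ∀ (U : X.affineOpens) (V : S.affineOpens) (h : (U : X.Opens) ≤ f ⁻¹ᵁ (V : S.Opens)),
      Flatn.RelFPOn f F U V h := by
  refine ⟨fun hF U V h => rp_of_isRelFP f F hF U.2 V.2 h, fun H => ?_⟩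
  refine isRelFP_of_goodAt f F fun x => ?_
  obtain ⟨U, V, hU, hV, hx, hle⟩ := exists_affine_pair f x
  exact ⟨U, V, hle, hU, hV, hx, H ⟨U, hU⟩ ⟨V, hV⟩ hle⟩

end Groth.Agent.RelFP
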