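import Groth.Agent.RelFP.Basic
import Mathlib.RingTheory.Finiteness.ModuleFinitePresentation
import Mathlib.RingTheory.IntegralClosure.IsIntegral.Basic
import Mathlib.RingTheory.IntegralClosure.IsIntegralClosure.Basic
import Mathlib.RingTheory.Polynomial.Basic
import Mathlib.Algebra.Polynomial.Lifts
import Mathlib.RingTheory.TensorProduct.Finite

/-!
Change of rings for relative finite presentation of modules.
-/

set_option autoImplicit false
set_option linter.style.haveILetI false

universe u v

open TensorProduct

namespace Groth.Agent.RelFP.Change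

open Groth.Agent.RelFP.Basic

/-- Over a finite algebra which is finitely presented as a module, finite presentation does not change. -/
theorem fp_iff_of_finite (P B : Type u) [CommRing P] [CommRing B] [Algebra P B]
    [Module.FinitePresentation P B] (M : Type v) [AddCommGroup M] [Module P M] [Module B M]
    [IsScalarTower P B M] : Module.FinitePresentation P M ↔ Module.FinitePresentation B M := by
  constructor
  · intro h
    haveI : Module.Finite B M := Module.Finite.of_restrictScalars_finite P B M
    obtain ⟨n, f, hf⟩ := Module.Finite.exists_fin' B M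
    have hg : (LinearMap.ker (f.restrictScalars P)).FG :=
      Module.FinitePresentation.fg_ker _ (show Function.Surjective (f.restrictScalars P) from hf)
    rw [LinearMap.ker_restrictScalars] at hg
    exact Module.finitePresentation_of_surjective f hf (Submodule.FG.of_restrictScalars (R := P) hg)
  · intro h
    exact Module.FinitePresentation.trans P M B

/-- Finite presentation through a surjection implies finite presentation. -/
theorem fp_of_fpVia {P A : Type u} [CommRing P] [CommRing A] (φ : P →+* A) (hφ : Function.Surjective φ)
    (M : Type v) [AddCommGroup M] [Module A M] (h : FPVia φ M) : Module.FinitePresentation A M := by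
  letI := φ.toAlgebra
  letI : Module P M := Module.compHom M φ
  haveI : IsScalarTower P A M := IsScalarTower.of_algebraMap_smul fun p m => rfl
  haveI : Module.FinitePresentation P M := h
  haveI : Module.Finite P A := Module.Finite.of_surjective (Algebra.linearMap P A) hφ
  haveI : Module.Finite A M := Module.Finite.of_restrictScalars_finite P A M
  obtain ⟨n, f, hf⟩ := Module.Finite.exists_fin' A M
  have hg : (LinearMap.ker (f.restrictScalars P)).FG :=
    Module.FinitePresentation.fg_ker _ (show Function.Surjective (f.restrictScalars P) from hf)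
  rw [LinearMap.ker_restrictScalars] at hg
  exact Module.finitePresentation_of_surjective f hf (Submodule.FG.of_restrictScalars (R := P) hg)

/-- Relative finite presentation along a finite map of algebras. -/
theorem fpVia_iff_of_finite {R A B : Type u} [CommRing R] [CommRing A] [CommRing B]
    [Algebra R A] [Algebra A B] [Algebra R B] [IsScalarTower R A B] [Module.Finite A B]
    (M : Type v) [AddCommGroup M] [Module B M] [Module A M] [IsScalarTower A B M]
    {P Q : Type u} [CommRing P] [CommRing Q] [Algebra R P] [Algebra R Q]
    [Algebra.FinitePresentation R P] [Algebra.FinitePresentation R Q]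
    (α : P →ₐ[R] A) (hα : Function.Surjective α) (β : Q →ₐ[R] B) (hβ : Function.Surjective β) :
    FPVia α.toRingHom M ↔ FPVia β.toRingHom M := by
  classical
  letI : Algebra P B := ((algebraMap A B).comp α.toRingHom).toAlgebra
  haveI : IsScalarTower R P B := IsScalarTower.of_algebraMap_eq fun r => by
    show algebraMap R B r = algebraMap A B (α (algebraMap R P r))
    rw [AlgHom.commutes, ← IsScalarTower.algebraMap_apply R A B]
  obtain ⟨l, b, hb⟩ := Module.Finite.exists_fin (R := A) (M := B)
  have hint : ∀ j, ∃ G : Polynomial P, G.Monic ∧ Polynomial.aeval (b j) G = 0 := by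
    intro j
    obtain ⟨g, hg, hg0⟩ := Algebra.IsIntegral.isIntegral (R := A) (b j)
    obtain ⟨G, hG, -, hGm⟩ := Polynomial.lifts_and_natDegree_eq_and_monic
      (f := α.toRingHom) (p := g) (by
        rw [Polynomial.lifts_iff_coeff_lifts]
        exact fun n => hα _) hg
    refine ⟨G, hGm, ?_⟩
    rw [Polynomial.aeval_def, show algebraMap P B = (algebraMap A B).comp α.toRingHom from rfl,
      ← Polynomial.eval₂_map, hG]
    exact hg0
  choose G hGm hG0 using hint
  let J : Ideal (MvPolynomial (Fin l) P) :=
    Ideal.span (Set.range fun j => Polynomial.aeval (MvPolynomial.X j) (G j))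
  let B' := MvPolynomial (Fin l) P ⧸ J
  haveI : Algebra.FinitePresentation P B' :=
    Algebra.FinitePresentation.quotient (Submodule.fg_span (Set.finite_range _))
  haveI : Module.Finite P B' := by
    let x : Fin l → B' := fun j => Ideal.Quotient.mkₐ P J (MvPolynomial.X j)
    have hfg : (Algebra.adjoin P (Set.range x)).toSubmodule.FG := by
      refine fg_adjoin_of_finite (Set.finite_range x) ?_
      rintro _ ⟨j, rfl⟩
      refine ⟨G j, hGm j, ?_⟩
      rw [← Polynomial.aeval_def, Polynomial.aeval_algHom_apply, Ideal.Quotient.mkₐ_eq_mk,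
        Ideal.Quotient.eq_zero_iff_mem]
      exact Ideal.subset_span ⟨j, rfl⟩
    have htop : Algebra.adjoin P (Set.range x) = ⊤ := by
      rw [show Set.range x = Ideal.Quotient.mkₐ P J '' Set.range MvPolynomial.X from Set.range_comp _ _,
        ← AlgHom.map_adjoin, MvPolynomial.adjoin_range_X, Algebra.map_top, AlgHom.range_eq_top]
      exact Ideal.Quotient.mkₐ_surjective P J
    rw [htop, Algebra.top_toSubmodule] at hfg
    exact ⟨hfg⟩
  haveI : Module.FinitePresentation P B' := Module.FinitePresentation.of_finite_of_finitePresentation P B'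
  haveI : Algebra.FinitePresentation R B' := Algebra.FinitePresentation.trans R P B'
  let π : B' →ₐ[P] B := Ideal.Quotient.liftₐ J (MvPolynomial.aeval b) (fun z hz => by
    refine Submodule.span_induction ?_ (map_zero _) (fun u v _ _ hu hv => by rw [map_add, hu, hv, add_zero])
      (fun c u _ hu => by rw [smul_eq_mul, map_mul, hu, mul_zero]) hz
    rintro _ ⟨j, rfl⟩
    rw [← Polynomial.aeval_algHom_apply, MvPolynomial.aeval_X, hG0])
  have hπ : Function.Surjective π := by
    intro y
    have hy : y ∈ Submodule.span A (Set.range b) := hb ▸ Submodule.mem_top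
    induction hy using Submodule.span_induction with
    | mem y hy =>
      obtain ⟨j, rfl⟩ := hy
      exact ⟨Ideal.Quotient.mk J (MvPolynomial.X j), MvPolynomial.aeval_X b j⟩
    | zero => exact ⟨0, map_zero π⟩
    | add u v _ _ hu hv =>
      obtain ⟨u, rfl⟩ := hu
      obtain ⟨v, rfl⟩ := hv
      exact ⟨u + v, map_add π u v⟩
    | smul a u _ hu =>
      obtain ⟨u, rfl⟩ := hu
      obtain ⟨p, rfl⟩ := hα a
      refine ⟨p • u, ?_⟩
      rw [map_smul, Algebra.smul_def, Algebra.smul_def]
      rfl
  rw [← fpVia_iff_fpVia (π.restrictScalars R) hπ β hβ M]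
  letI : Module P M := Module.compHom M α.toRingHom
  letI : Module B' M := Module.compHom M (π.restrictScalars R).toRingHom
  haveI : IsScalarTower P B' M := IsScalarTower.of_algebraMap_smul (R := P) (A := B') (M := M) fun p m => by
    show π (algebraMap P B' p) • m = α p • m
    rw [AlgHom.commutes]
    exact algebraMap_smul B (α p) m
  exact fp_iff_of_finite P B' M

/-- Relative finite presentation is preserved by base change to a finitely presented algebra. -/
theorem fpVia_tensor {R A A' : Type u} [CommRing R] [CommRing A] [CommRing A'] [Algebra R A]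
    [Algebra A A'] [Algebra R A'] [IsScalarTower R A A'] [Algebra.FinitePresentation A A']
    (M : Type u) [AddCommGroup M] [Module A M] {P Q : Type u} [CommRing P] [CommRing Q] [Algebra R P]
    [Algebra R Q] [Algebra.FinitePresentation R P] [Algebra.FinitePresentation R Q]
    (α : P →ₐ[R] A) (hα : Function.Surjective α) (hM : FPVia α.toRingHom M)
    (γ : Q →ₐ[R] A') (hγ : Function.Surjective γ) : FPVia γ.toRingHom (A' ⊗[A] M) := by
  classical
  obtain ⟨t, f, hf, hker⟩ := Algebra.FinitePresentation.out (R := A) (A := A')
  letI : Algebra P A := α.toRingHom.toAlgebra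
  haveI : IsScalarTower R P A := IsScalarTower.of_algebraMap_eq fun r => (α.commutes r).symm
  letI : Algebra P A' := ((algebraMap A A').comp α.toRingHom).toAlgebra
  haveI : IsScalarTower P A A' := IsScalarTower.of_algebraMap_eq fun _ => rfl
  haveI : IsScalarTower R P A' := IsScalarTower.of_algebraMap_eq fun r => by
    rw [IsScalarTower.algebraMap_apply P A A', ← IsScalarTower.algebraMap_apply R P A,
      ← IsScalarTower.algebraMap_apply R A A']
  obtain ⟨s, hs⟩ := hker
  have hmap : Function.Surjective (MvPolynomial.map (σ := Fin t) α.toRingHom) :=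
    MvPolynomial.map_surjective _ hα
  choose w hw using hmap
  let J₀ : Ideal (MvPolynomial (Fin t) P) := Ideal.span (Finset.image w s : Set (MvPolynomial (Fin t) P))
  let φ : MvPolynomial (Fin t) P →ₐ[P] A' := MvPolynomial.aeval fun i => f (MvPolynomial.X i)
  have hφ : ∀ z, φ z = f (MvPolynomial.map α.toRingHom z) := fun z => by
    induction z using MvPolynomial.induction_on with
    | C p => simp [φ]; rfl
    | add p q hp hq => simp only [map_add, hp, hq]
    | mul_X p i hp => simp only [map_mul, hp, MvPolynomial.map_X]; simp [φ]
  let C := MvPolynomial (Fin t) P ⧸ J₀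
  haveI : Algebra.FinitePresentation P C :=
    Algebra.FinitePresentation.quotient (Submodule.fg_span (Finset.finite_toSet _))
  haveI : Algebra.FinitePresentation R C := Algebra.FinitePresentation.trans R P C
  have hJ₀ : ∀ z ∈ J₀, φ z = 0 := by
    intro z hz
    refine Submodule.span_induction ?_ (map_zero _) (fun u v _ _ hu hv => by rw [map_add, hu, hv, add_zero])
      (fun c u _ hu => by rw [smul_eq_mul, map_mul, hu, mul_zero]) hz
    intro u hu
    obtain ⟨v, hv, rfl⟩ := Finset.mem_image.mp hu
    rw [hφ, hw]
    have : v ∈ RingHom.ker f.toRingHom := hs ▸ Submodule.subset_span hv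
    exact this
  let π : C →ₐ[P] A' := Ideal.Quotient.liftₐ J₀ φ hJ₀
  have hπ : Function.Surjective π := fun y => by
    obtain ⟨z, rfl⟩ := hf y
    exact ⟨Ideal.Quotient.mk J₀ (w z), (hφ _).trans (congrArg f (hw z))⟩
  rw [← fpVia_iff_fpVia (π.restrictScalars R) hπ γ hγ _]
  -- the kernel of `C → A'` is generated by the kernel of `P → A`
  have hker : RingHom.ker π.toRingHom ≤ (RingHom.ker α.toRingHom).map (algebraMap P C) := by
    intro z hz
    obtain ⟨z, rfl⟩ := Ideal.Quotient.mk_surjective z
    have h1 : MvPolynomial.map α.toRingHom z ∈ RingHom.ker f.toRingHom := by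
      have : φ z = 0 := hz
      rwa [hφ] at this
    rw [← hs] at h1
    have h2 : Submodule.span _ (s : Set (MvPolynomial (Fin t) A)) ≤
        J₀.map (MvPolynomial.map (σ := Fin t) α.toRingHom) := by
      refine Submodule.span_le.mpr fun v hv => ?_
      rw [← hw v]
      exact Ideal.mem_map_of_mem _ (Ideal.subset_span (Finset.mem_image_of_mem w hv))
    have h3 := h2 h1
    have h4 : z ∈ (J₀.map (MvPolynomial.map (σ := Fin t) α.toRingHom)).comap
        (MvPolynomial.map (σ := Fin t) α.toRingHom) := h3
    rw [Ideal.comap_map_of_surjective _ (MvPolynomial.map_surjective _ hα), ← RingHom.ker_eq_comap_bot,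
      MvPolynomial.ker_map] at h4
    obtain ⟨a, ha, b, hb, rfl⟩ := Submodule.mem_sup.mp h4
    rw [map_add, Ideal.Quotient.eq_zero_iff_mem.mpr ha, zero_add]
    have h5 := Ideal.mem_map_of_mem (Ideal.Quotient.mk J₀) hb
    rw [Ideal.map_map] at h5
    exact h5
  letI : Module P M := Module.compHom M α.toRingHom
  haveI : IsScalarTower P A M := IsScalarTower.of_algebraMap_smul fun p m => rfl
  haveI : Module.FinitePresentation P M := hM
  haveI : Module.FinitePresentation C (C ⊗[P] M) := inferInstance
  letI : Module C (A' ⊗[A] M) := Module.compHom _ (π.restrictScalars R).toRingHom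
  have hkill : ∀ c ∈ RingHom.ker π.toRingHom, ∀ m : M, c ⊗ₜ[P] m = 0 := by
    intro c hc m
    have hc' := hker hc
    suffices h : ∀ m : M, c ⊗ₜ[P] m = 0 from h m
    clear hc m
    induction hc' using Submodule.span_induction with
    | mem c hc =>
      obtain ⟨p, hp, rfl⟩ := hc
      intro m
      have hpm : p • m = 0 := by
        show α p • m = 0
        rw [show α p = 0 from hp, zero_smul]
      rw [Algebra.algebraMap_eq_smul_one, TensorProduct.smul_tmul, hpm, TensorProduct.tmul_zero]
    | zero => exact fun m => TensorProduct.zero_tmul _ _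
    | add a b _ _ ha hb => exact fun m => by rw [TensorProduct.add_tmul, ha, hb, add_zero]
    | smul a b _ hb =>
      intro m
      rw [← TensorProduct.smul_tmul', hb, smul_zero]
  choose σ hσ using hπ
  have hdiff : ∀ (c : C) (m : M), σ (π c) ⊗ₜ[P] m = c ⊗ₜ[P] m := fun c m => by
    rw [← sub_eq_zero, ← TensorProduct.sub_tmul]
    refine hkill _ ?_ m
    show π (σ (π c) - c) = 0
    rw [map_sub, hσ, sub_self]
  let inv : A' ⊗[A] M →+ C ⊗[P] M := TensorProduct.liftAddHom
    (AddMonoidHom.mk' (fun a => AddMonoidHom.mk' (fun m => σ a ⊗ₜ[P] m) (fun x y => TensorProduct.tmul_add _ x y))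
      (fun a b => by
        ext m
        show σ (a + b) ⊗ₜ[P] m = σ a ⊗ₜ[P] m + σ b ⊗ₜ[P] m
        rw [← TensorProduct.add_tmul, ← hdiff (σ a + σ b), map_add, hσ, hσ]))
    (fun a x m => by
      obtain ⟨p, rfl⟩ := hα a
      show σ (α p • x) ⊗ₜ[P] m = σ x ⊗ₜ[P] (α p • m)
      refine Eq.trans ?_ ((hdiff (p • σ x) m).trans (TensorProduct.smul_tmul p (σ x) m))
      congr 2
      rw [map_smul, hσ]
      exact algebraMap_smul A p x)
  let fwd : C ⊗[P] M →+ A' ⊗[A] M := TensorProduct.liftAddHom
    (AddMonoidHom.mk' (fun c => AddMonoidHom.mk' (fun m => π c ⊗ₜ[A] m) (fun x y => TensorProduct.tmul_add _ x y))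
      (fun a b => by
        ext m
        show π (a + b) ⊗ₜ[A] m = π a ⊗ₜ[A] m + π b ⊗ₜ[A] m
        rw [← TensorProduct.add_tmul, map_add]))
    (fun p c m => by
      show π (p • c) ⊗ₜ[A] m = π c ⊗ₜ[A] (α p • m)
      rw [← TensorProduct.smul_tmul, map_smul, ← algebraMap_smul A p (π c)]
      rfl)
  let e : C ⊗[P] M ≃ₗ[C] A' ⊗[A] M :=
    { toFun := fwd
      invFun := inv
      map_add' := map_add fwd
      map_smul' := fun c z => by
        show fwd (c • z) = π c • fwd z
        induction z using TensorProduct.induction_on with
        | zero => simp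
        | tmul d m =>
          rw [TensorProduct.smul_tmul']
          show π (c • d) ⊗ₜ[A] m = π c • (π d ⊗ₜ[A] m)
          rw [TensorProduct.smul_tmul', smul_eq_mul, smul_eq_mul, map_mul]
        | add x y hx hy => rw [smul_add, map_add, map_add, hx, hy, smul_add]
      left_inv := fun z => by
        induction z using TensorProduct.induction_on with
        | zero => simp
        | tmul d m => exact hdiff d m
        | add x y hx hy => rw [map_add, map_add, hx, hy]
      right_inv := fun z => by
        induction z using TensorProduct.induction_on with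
        | zero => simp
        | tmul d m =>
          show π (σ d) ⊗ₜ[A] m = d ⊗ₜ[A] m
          rw [hσ]
        | add x y hx hy => rw [map_add, map_add, hx, hy] }
  exact Module.FinitePresentation.of_equiv e

end Groth.Agent.RelFP.Change
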