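import Groth.Agent.RelFP.Scheme
import Groth.Agent.QCoh.FiniteType
import Mathlib.AlgebraicGeometry.Morphisms.Finite
import Mathlib.CategoryTheory.Preadditive.Biproducts

/-!
# Relative finite presentation of quasi-coherent modules: exactness, push, pullback
-/

set_option autoImplicit false
universe u

noncomputable section

open AlgebraicGeometry CategoryTheory Limits Opposite TopologicalSpace TensorProduct

namespace Groth.Agent.RelFP

open Groth.Agent.QCoh

variable {X Y S : Scheme.{u}}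

/-- A map of modules on sections, as a linear map. -/
def appLin {M N : X.Modules} (φ : M ⟶ N) (U : X.Opens) : Γ(M, U) →ₗ[Γ(X, U)] Γ(N, U) where
  toFun := φ.app U
  map_add' := map_add _
  map_smul' r x := Scheme.Modules.Hom.app_smul φ r x

theorem rp_X₂ {f : X ⟶ S} (E : ShortComplex X.Modules) (hE : E.ShortExact)
    [E.X₁.IsQuasicoherent] {U : X.Opens} {V : S.Opens} {h : U ≤ f ⁻¹ᵁ V} (hU : IsAffineOpen U)
    (h₁ : RP f E.X₁ U V h) (h₃ : RP f E.X₃ U V h) : RP f E.X₂ U V h := by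
  have := hE.mono_f
  letI := (f.appLE V U h).hom.toAlgebra
  refine of_exact (appLin E.f U) (appLin E.g U) (app_injective_of_mono E.f U)
    (app_surjective_of_shortExact hU E hE) (fun y => ⟨fun hy => ?_, ?_⟩) h₁ h₃
  · exact exists_app_eq_of_app_eq_zero E hE.exact U y hy
  · rintro ⟨y, rfl⟩
    exact app_app_eq_zero E U y

theorem rp_X₃ {f : X ⟶ S} (E : ShortComplex X.Modules) (hE : E.ShortExact)
    [E.X₁.IsQuasicoherent] [SheafOfModules.IsFiniteType.{u} E.X₁] {U : X.Opens} {V : S.Opens}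
    {h : U ≤ f ⁻¹ᵁ V} (hU : IsAffineOpen U) (h₂ : RP f E.X₂ U V h) : RP f E.X₃ U V h := by
  have := hE.mono_f
  letI := (f.appLE V U h).hom.toAlgebra
  have := finite_sections_of_isFiniteType E.X₁ hU
  refine of_surjective (appLin E.g U) (app_surjective_of_shortExact hU E hE) ?_ h₂
  have e : LinearMap.ker (appLin E.g U) = LinearMap.range (appLin E.f U) := by
    ext y
    refine ⟨fun hy => exists_app_eq_of_app_eq_zero E hE.exact U y hy, ?_⟩
    rintro ⟨y, rfl⟩
    exact app_app_eq_zero E U y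
  rw [e, LinearMap.range_eq_map]
  exact Module.Finite.fg_top.map _

/-- A retract of a relatively finitely presented module is relatively finitely presented. -/
theorem retract {R A : Type u} [CommRing R] [CommRing A] [Algebra R A] {M N : Type u}
    [AddCommGroup M] [Module A M] [AddCommGroup N] [Module A N] (p : M →ₗ[A] N) (i : N →ₗ[A] M)
    (hpi : p ∘ₗ i = LinearMap.id) (h : FlatCA.RelFinitePresentation R A M) :
    FlatCA.RelFinitePresentation R A N := by
  have := moduleFinite h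
  have hp : ∀ x, p (i x) = x := fun x => LinearMap.congr_fun hpi x
  refine of_surjective p (fun x => ⟨i x, hp x⟩) ?_ h
  have e : LinearMap.ker p = LinearMap.range (LinearMap.id - i ∘ₗ p) := by
    refine le_antisymm (fun x hx => ⟨x, by simp [LinearMap.mem_ker.mp hx]⟩) ?_
    rintro _ ⟨x, rfl⟩
    simp [hp]
  rw [e, LinearMap.range_eq_map]
  exact Module.Finite.fg_top.map _

theorem rp_retract {f : X ⟶ S} {M N : X.Modules} (p : M ⟶ N) (i : N ⟶ M) (hpi : i ≫ p = 𝟙 N)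
    {U : X.Opens} {V : S.Opens} {h : U ≤ f ⁻¹ᵁ V} (hM : RP f M U V h) : RP f N U V h := by
  letI := (f.appLE V U h).hom.toAlgebra
  refine retract (appLin p U) (appLin i U) (LinearMap.ext fun x => ?_) hM
  show p.app U (i.app U x) = x
  rw [← ConcreteCategory.comp_apply, ← Scheme.Modules.Hom.comp_app, hpi]
  rfl

theorem rp_push {π : X ⟶ Y} [IsFinite π] {g : Y ⟶ S} [LocallyOfFiniteType g] {F : X.Modules}
    {V : Y.Opens} {W : S.Opens} (hV : IsAffineOpen V) (hW : IsAffineOpen W) (h : V ≤ g ⁻¹ᵁ W) :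
    RP (π ≫ g) F (π ⁻¹ᵁ V) W (π.preimage_mono h) ↔
      RP g ((Scheme.Modules.pushforward π).obj F) V W h := by
  letI := (g.appLE W V h).hom.toAlgebra
  letI := (π.app V).hom.toAlgebra
  letI := ((π ≫ g).appLE W (π ⁻¹ᵁ V) (π.preimage_mono h)).hom.toAlgebra
  haveI : IsScalarTower Γ(S, W) Γ(Y, V) Γ(X, π ⁻¹ᵁ V) := IsScalarTower.of_algebraMap_eq' (by
    show ((π ≫ g).appLE W (π ⁻¹ᵁ V) (π.preimage_mono h)).hom = (π.app V).hom.comp (g.appLE W V h).hom
    rw [← CommRingCat.hom_comp, ← Scheme.Hom.appLE_comp_appLE π g W V (π ⁻¹ᵁ V) h le_rfl]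
    congr 2
    exact (Scheme.Hom.app_eq_appLE π).symm)
  haveI : Module.Finite Γ(Y, V) Γ(X, π ⁻¹ᵁ V) := IsFinite.finite_app π V hV
  haveI := finiteType_appLE (f := g) hV hW h
  letI : Module Γ(Y, V) Γ(F, π ⁻¹ᵁ V) := Module.compHom _ (π.app V).hom
  haveI : IsScalarTower Γ(Y, V) Γ(X, π ⁻¹ᵁ V) Γ(F, π ⁻¹ᵁ V) :=
    IsScalarTower.of_algebraMap_smul fun _ _ => rfl
  exact (iff_finite (R := Γ(S, W)) (A := Γ(Y, V)) (B := Γ(X, π ⁻¹ᵁ V))
    (M := Γ(F, π ⁻¹ᵁ V))).symm

theorem rp_comp {f : X ⟶ Y} {g : Y ⟶ S} [LocallyOfFinitePresentation g] {F : X.Modules}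
    {U : X.Opens} {V : Y.Opens} {W : S.Opens} (hV : IsAffineOpen V) (hW : IsAffineOpen W)
    {h : U ≤ f ⁻¹ᵁ V} (h' : V ≤ g ⁻¹ᵁ W) (hF : RP f F U V h) :
    RP (f ≫ g) F U W (h.trans (f.preimage_mono h')) := by
  letI := (f.appLE V U h).hom.toAlgebra
  letI := (g.appLE W V h').hom.toAlgebra
  letI := ((f ≫ g).appLE W U (h.trans (f.preimage_mono h'))).hom.toAlgebra
  haveI : IsScalarTower Γ(S, W) Γ(Y, V) Γ(X, U) := IsScalarTower.of_algebraMap_eq'
    congr($((Scheme.Hom.appLE_comp_appLE f g W V U h' h).symm).hom)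
  haveI := finitePresentation_appLE (f := g) hV hW h'
  exact iff_base.2 hF

theorem rp_pullback {f : X ⟶ Y} {g : Y ⟶ S} [LocallyOfFinitePresentation f] {G : Y.Modules}
    [G.IsQuasicoherent] {U : X.Opens} {V : Y.Opens} {W : S.Opens} (hU : IsAffineOpen U)
    (hV : IsAffineOpen V) {h' : V ≤ g ⁻¹ᵁ W} (h : U ≤ f ⁻¹ᵁ V) (hG : RP g G V W h') :
    RP (f ≫ g) ((Scheme.Modules.pullback f).obj G) U W (h.trans (f.preimage_mono h')) := by
  letI := (f.appLE V U h).hom.toAlgebra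
  letI := (g.appLE W V h').hom.toAlgebra
  letI := ((f ≫ g).appLE W U (h.trans (f.preimage_mono h'))).hom.toAlgebra
  haveI : IsScalarTower Γ(S, W) Γ(Y, V) Γ(X, U) := IsScalarTower.of_algebraMap_eq'
    congr($((Scheme.Hom.appLE_comp_appLE f g W V U h' h).symm).hom)
  haveI := finitePresentation_appLE (f := f) hU hV h
  letI := LimTop.secModule f G h
  haveI : IsScalarTower Γ(Y, V) Γ(X, U) Γ((Scheme.Modules.pullback f).obj G, U) :=
    IsScalarTower.of_algebraMap_smul fun _ _ => rfl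
  exact congr (LimTop.isBaseChange_unitSec f G h hV hU).equiv (tensor Γ(X, U) hG)

theorem rp_baseChange {X' S' : Scheme.{u}} {f : X ⟶ S} {g : S' ⟶ S} {f' : X' ⟶ S'} {g' : X' ⟶ X}
    (hc : IsPullback g' f' f g) {F : X.Modules} [F.IsQuasicoherent] {U : X.Opens} {V : S.Opens}
    {V' : S'.Opens} (hU : IsAffineOpen U) (hV : IsAffineOpen V) (hV' : IsAffineOpen V')
    {h : U ≤ f ⁻¹ᵁ V} (e : V' ≤ g ⁻¹ᵁ V) (hF : RP f F U V h) :
    IsAffineOpen (g' ⁻¹ᵁ U ⊓ f' ⁻¹ᵁ V') ∧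
    RP f' ((Scheme.Modules.pullback g').obj F) (g' ⁻¹ᵁ U ⊓ f' ⁻¹ᵁ V') V' inf_le_right := by
  obtain ⟨W, hW'⟩ : ∃ W, W = g' ⁻¹ᵁ U ⊓ f' ⁻¹ᵁ V' := ⟨_, rfl⟩
  have hWU : W ≤ g' ⁻¹ᵁ U := hW'.le.trans inf_le_left
  have hWV : W ≤ f' ⁻¹ᵁ V' := hW'.le.trans inf_le_right
  have hW : IsAffineOpen W := by
    have : IsAffine V.toScheme := hV
    have : IsAffine V'.toScheme := hV'
    have : IsAffine U.toScheme := hU
    exact .of_isIso (Scheme.Hom.isPullback_resLE hc e h hW').isoPullback.hom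
  have hpush : IsPushout (f.appLE V U h) (g.appLE V V' e) (g'.appLE U W hWU) (f'.appLE V' W hWV) :=
    (isIso_pushoutSection_iff hc e h hW').mp
      (isIso_pushoutSection_of_isAffineOpen hc e h hW' hV hV' hU)
  suffices RP f' ((Scheme.Modules.pullback g').obj F) W V' hWV by subst hW'; exact ⟨hW, this⟩
  letI := (f.appLE V U h).hom.toAlgebra
  letI := (g.appLE V V' e).hom.toAlgebra
  letI := (g'.appLE U W hWU).hom.toAlgebra
  letI := (f'.appLE V' W hWV).hom.toAlgebra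
  letI : Algebra Γ(S, V) Γ(X', W) :=
    ((f'.appLE V' W hWV).hom.comp (g.appLE V V' e).hom).toAlgebra
  haveI : IsScalarTower Γ(S, V) Γ(S', V') Γ(X', W) := .of_algebraMap_eq' rfl
  haveI : IsScalarTower Γ(S, V) Γ(X, U) Γ(X', W) :=
    .of_algebraMap_eq' congr($(hpush.w).hom).symm
  haveI : Algebra.IsPushout Γ(S, V) Γ(S', V') Γ(X, U) Γ(X', W) :=
    CommRingCat.isPushout_iff_isPushout.mp hpush.flip
  letI := LimTop.secModule g' F hWU
  haveI : IsScalarTower Γ(X, U) Γ(X', W) Γ((Scheme.Modules.pullback g').obj F, W) :=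
    IsScalarTower.of_algebraMap_smul fun _ _ => rfl
  exact baseChange (R := Γ(S, V)) (A := Γ(X, U)) (LimTop.unitSecLin g' F hWU)
    (LimTop.isBaseChange_unitSec g' F hWU hU hW) hF

end Groth.Agent.RelFP
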